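import Cfsg.Agent.Lib.SU5.CheckFamily

/-!
Kernel checks of the derivation of exact conjugation relations.
-/

set_option autoImplicit false

namespace CfsgLib.SU5

/-- Membership of a relation. -/
def good (s : ℕ × ℕ) (a b : ℕ) : Bool := Nat.testBit s.1 (a * 165 + b)

/-- Membership of a fixed point. -/
def fix (s : ℕ × ℕ) (k a : ℕ) : Bool := Nat.testBit s.2 (k * 165 + a)

/-- One derivation step. -/
def rstep (s : ℕ × ℕ) (t : ℕ) : Option (ℕ × ℕ) :=
  let m := rd stepT 40 t
  let k := (m >>> 3) % 256
  let a := (m >>> 11) % 256
  let b := (m >>> 19) % 256
  if !(decide (a < 165) && decide (b < 165)) then none else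
  match m % 8 with
  | 0 => if decide (k < 15) && decide (b < 5) && pz k a == a && pz b a == a && cm k b then
      some (s.1, s.2 ||| 2 ^ (k * 165 + a)) else none
  | 1 => if decide (k < 15) && fix s k a && fix s k b && fix s k (act a b) then
      some (s.1 ||| 2 ^ (a * 165 + b), s.2) else none
  | 2 => let q := act k a
         let r := act k b
         if decide (k < 165) && act k q == a && good s k q && good s k b && good s q r &&
            good s k (act q r) && act k (act q r) == act a b then
      some (s.1 ||| 2 ^ (a * 165 + b), s.2) else none
  | 3 => if decide (k < 15) && fix s k a && fix s k b && good s a b then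
      some (s.1, s.2 ||| 2 ^ (k * 165 + act a b)) else none
  | _ => let o := (m >>> 27) % 16
         let j1 := (m >>> 31) % 16
         let j2 := (m >>> 35) % 16
         if decide (k < 15) && decide (o < 5) && decide (j1 < 5) && decide (j2 < 5) &&
            pz k a == a && pz k b == b && pz o a == a && pz o b == b && cm k j1 && cm k j2 &&
            !perp a b && act a b == act b a && pz o (act a b) == act a b &&
            ((List.range 165).all fun r => pw [a, b] r == pz j1 (pz j2 (pz j2 r))) then
      some (s.1, s.2 ||| 2 ^ (k * 165 + a) ||| 2 ^ (k * 165 + b)) else none

/-- Running a list of steps. -/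
def rrun : List ℕ → ℕ × ℕ → Option (ℕ × ℕ)
  | [], s => some s
  | t :: ts, s => match rstep s t with
    | some s' => rrun ts s'
    | none => none

set_option maxRecDepth 100000 in
theorem rrun_0 : rrun (List.range' 0 1000) snap_0 = some snap_1 := by decide +kernel
set_option maxRecDepth 100000 in
theorem rrun_1 : rrun (List.range' 1000 1000) snap_1 = some snap_2 := by decide +kernel
set_option maxRecDepth 100000 in
theorem rrun_2 : rrun (List.range' 2000 1000) snap_2 = some snap_3 := by decide +kernel
set_option maxRecDepth 100000 in
theorem rrun_3 : rrun (List.range' 3000 1000) snap_3 = some snap_4 := by decide +kernel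
set_option maxRecDepth 100000 in
theorem rrun_4 : rrun (List.range' 4000 1000) snap_4 = some snap_5 := by decide +kernel
set_option maxRecDepth 100000 in
theorem rrun_5 : rrun (List.range' 5000 1000) snap_5 = some snap_6 := by decide +kernel
set_option maxRecDepth 100000 in
theorem rrun_6 : rrun (List.range' 6000 1000) snap_6 = some snap_7 := by decide +kernel
set_option maxRecDepth 100000 in
theorem rrun_7 : rrun (List.range' 7000 1000) snap_7 = some snap_8 := by decide +kernel
set_option maxRecDepth 100000 in
theorem rrun_8 : rrun (List.range' 8000 1000) snap_8 = some snap_9 := by decide +kernel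
set_option maxRecDepth 100000 in
theorem rrun_9 : rrun (List.range' 9000 1000) snap_9 = some snap_10 := by decide +kernel
set_option maxRecDepth 100000 in
theorem rrun_10 : rrun (List.range' 10000 1000) snap_10 = some snap_11 := by decide +kernel
set_option maxRecDepth 100000 in
theorem rrun_11 : rrun (List.range' 11000 1000) snap_11 = some snap_12 := by decide +kernel
set_option maxRecDepth 100000 in
theorem rrun_12 : rrun (List.range' 12000 1000) snap_12 = some snap_13 := by decide +kernel
set_option maxRecDepth 100000 in
theorem rrun_13 : rrun (List.range' 13000 1000) snap_13 = some snap_14 := by decide +kernel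
set_option maxRecDepth 100000 in
theorem rrun_14 : rrun (List.range' 14000 1000) snap_14 = some snap_15 := by decide +kernel
set_option maxRecDepth 100000 in
theorem rrun_15 : rrun (List.range' 15000 1000) snap_15 = some snap_16 := by decide +kernel
set_option maxRecDepth 100000 in
theorem rrun_16 : rrun (List.range' 16000 1000) snap_16 = some snap_17 := by decide +kernel
set_option maxRecDepth 100000 in
theorem rrun_17 : rrun (List.range' 17000 1000) snap_17 = some snap_18 := by decide +kernel
set_option maxRecDepth 100000 in
theorem rrun_18 : rrun (List.range' 18000 1000) snap_18 = some snap_19 := by decide +kernel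
set_option maxRecDepth 100000 in
theorem rrun_19 : rrun (List.range' 19000 1000) snap_19 = some snap_20 := by decide +kernel
set_option maxRecDepth 100000 in
theorem rrun_20 : rrun (List.range' 20000 1000) snap_20 = some snap_21 := by decide +kernel
set_option maxRecDepth 100000 in
theorem rrun_21 : rrun (List.range' 21000 1000) snap_21 = some snap_22 := by decide +kernel
set_option maxRecDepth 100000 in
theorem rrun_22 : rrun (List.range' 22000 1000) snap_22 = some snap_23 := by decide +kernel
set_option maxRecDepth 100000 in
theorem rrun_23 : rrun (List.range' 23000 1000) snap_23 = some snap_24 := by decide +kernel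
set_option maxRecDepth 100000 in
theorem rrun_24 : rrun (List.range' 24000 1000) snap_24 = some snap_25 := by decide +kernel
set_option maxRecDepth 100000 in
theorem rrun_25 : rrun (List.range' 25000 1000) snap_25 = some snap_26 := by decide +kernel
set_option maxRecDepth 100000 in
theorem rrun_26 : rrun (List.range' 26000 1000) snap_26 = some snap_27 := by decide +kernel
set_option maxRecDepth 100000 in
theorem rrun_27 : rrun (List.range' 27000 620) snap_27 = some snap_28 := by decide +kernel

theorem snap_full : snap_28.1 = 2 ^ 27225 - 1 := by decide +kernel

theorem snap_start : snap_0 = (0, 0) := by decide +kernel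

end CfsgLib.SU5
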